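import Cfsg.Agent.Two.B

/-! The counting argument for cyclic Sylow subgroups. -/

set_option autoImplicit false

namespace Cfsg.Agent.Two

open Subgroup Cfsg.Agent.PLoc Finset

theorem count {G : Type*} [Group G] [Fintype G] [DecidableEq G] (T : Finset G) (h0 : T.Nonempty)
    (hi : ∀ t ∈ T, t⁻¹ ∈ T) (hg : closure (T : Set G) = ⊤)
    (h4 : ∀ t ∈ T, 4 * (T.filter fun g => t * g ∉ T).card ≤ T.card) :
    Fintype.card G ≤ 2 * T.card := by
  set δ : G → ℕ := fun t => (T.filter fun g => t * g ∉ T).card with hδ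
  have sub : ∀ g h, δ (g * h) ≤ δ g + δ h := fun g h => by
    have e1 : (T.filter fun t => g * h * t ∉ T) ⊆
        ((T.filter fun t => g * t ∉ T).image fun t => h⁻¹ * t) ∪ T.filter fun t => h * t ∉ T :=
      fun t ht => by
      rw [mem_filter] at ht
      by_cases h1 : h * t ∈ T
      · exact mem_union_left _ (mem_image.2 ⟨h * t, mem_filter.2 ⟨h1, by
          rw [← mul_assoc]; exact ht.2⟩, by simp⟩)
      · exact mem_union_right _ (mem_filter.2 ⟨ht.1, h1⟩)
    exact (card_le_card e1).trans ((card_union_le _ _).trans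
      (Nat.add_le_add_right card_image_le _))
  have pos := h0.card_pos
  have step : ∀ g, 2 * δ g ≤ T.card → ∀ t ∈ T, 2 * δ (g * t) ≤ T.card := fun g hg t ht => by
    have h1 := sub g t
    have h2 : 4 * δ t ≤ T.card := h4 t ht
    obtain ⟨a, ha, hb⟩ : ∃ a ∈ T, g * t * a ∈ T := by
      by_contra hcon
      push Not at hcon
      have : δ (g * t) = T.card := congrArg card (filter_true_of_mem hcon)
      omega
    have h3 := sub (g * t * a) a⁻¹
    have h5 : 4 * δ (g * t * a) ≤ T.card := h4 _ hb
    have h6 : 4 * δ a⁻¹ ≤ T.card := h4 _ (hi a ha)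
    rw [mul_inv_cancel_right] at h3
    omega
  have all : ∀ g, 2 * δ g ≤ T.card := fun g => by
    have hg' : g ∈ closure (T : Set G) := hg ▸ mem_top g
    induction hg' using closure_induction_right with
    | one =>
      have : δ 1 = 0 := card_eq_zero.2 (filter_false_of_mem fun t ht => by simpa using ht)
      omega
    | mul_right x _ y hy h => exact step x h y hy
    | mul_inv_cancel x _ y hy h => exact step x h _ (hi y hy)
  have e1 := sum_card_bipartiteAbove_eq_sum_card_bipartiteBelow (s := (univ : Finset G)) (t := T)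
    fun g t => g * t ∈ T
  have e2 : ∀ t ∈ T, (bipartiteBelow (fun g t => g * t ∈ T) univ t).card = T.card := fun t _ =>
    card_bij (fun g _ => g * t) (fun g hg => by simpa [bipartiteBelow] using hg)
      (fun _ _ _ _ h => mul_right_cancel h)
      fun b hb => ⟨b * t⁻¹, by simpa [bipartiteBelow] using hb, by simp⟩
  rw [sum_congr rfl e2, sum_const, smul_eq_mul] at e1
  have e3 : ∀ g ∈ (univ : Finset G), T.card ≤ 2 * (bipartiteAbove (fun g t => g * t ∈ T) T g).card :=
    fun g _ => by
    have h1 := all g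
    have h2 : (bipartiteAbove (fun g t => g * t ∈ T) T g).card + δ g = T.card :=
      card_filter_add_card_filter_not _
    omega
  have e4 := sum_le_sum e3
  rw [← mul_sum, e1, sum_const, smul_eq_mul, card_univ, ← mul_assoc] at e4
  exact Nat.le_of_mul_le_mul_right e4 pos

namespace MC
variable {G : Type*} [Group G] [Finite G] {p : ℕ} [hp : Fact p.Prime] (H : MC G)
include H

theorem cyc' (h5 : 5 ≤ p) {S : Subgroup G} (hS : IsPGroup p S) : IsCyclic S := by
  obtain ⟨P, hP⟩ := hS.exists_le_sylow
  haveI := H.cyclic h5 P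
  exact isCyclic_of_injective (inclusion hP) (inclusion_injective hP)

theorem mem_sylow (h5 : 5 ≤ p) {t : G} (ht : p ∣ orderOf t) : ∃ P : Sylow p G, t ∈ P := by
  obtain ⟨a, ⟨i, hi⟩, b, hb, e, c, ⟨k, hk⟩, hbo⟩ := exists_p_part p t
  have ha1 : zpowers a ≠ ⊥ := fun h => by
    rw [zpowers_eq_bot.1 h, one_mul] at e
    exact hp.out.one_lt.ne' (Nat.eq_one_of_dvd_coprimes hbo (e ▸ ht) dvd_rfl)
  have h1 := isPGroup_zpowers hk
  set L := normalizer (zpowers a : Set G)
  have htL : t ∈ L := by
    refine centralizer_le_normalizer _ ?_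
    rw [centralizer_zpowers, mem_centralizer_singleton_iff, ← hi]
    exact ((Commute.refl t).zpow_right i).eq
  haveI := H.pr _ (H.n_ne h1 ha1)
  have h2 := pPrimeCoreOf_eq_bot_iff.1 (H.core h1 ha1)
  obtain ⟨S⟩ : Nonempty (Sylow p L) := inferInstance
  have hc : IsCyclic S := by
    haveI := H.cyc' h5 (S.2.map L.subtype)
    exact isCyclic_of_injective (L.subtype.subgroupMap S) (fun a b h => Subtype.ext (Subtype.ext
      (congrArg (fun z : (S : Subgroup L).map L.subtype => (z : G)) h)))
  have h3 := S0018.result p S ⟨⟨fun x y => by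
      letI := hc.commGroup
      exact mul_comm x y⟩⟩
  rw [h2, sup_bot_eq] at h3
  have h4 := ((sing_iff h2 (isSylowOf_top S) hc ⟨t, htL⟩).1 (by rwa [Subgroup.orderOf_mk])).1
  obtain ⟨P, hP⟩ := (S.2.map L.subtype).exists_le_sylow
  exact ⟨P, hP (mem_map_of_mem _ h4)⟩

theorem false (h5 : 5 ≤ p) (hd : p ∣ Nat.card G) : False := by
  classical
  have hsi := H.si
  have hF := Fintype.ofFinite G
  set T := univ.filter fun g : G => p ∣ orderOf g
  have mT : ∀ g, g ∈ T ↔ p ∣ orderOf g := fun g => by simp [T]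
  obtain ⟨x, hx⟩ := exists_prime_orderOf_dvd_card' p hd
  have x1 : x ≠ 1 := fun h => hp.out.one_lt.ne' (by rw [← hx, h, orderOf_one])
  have hxT : x ∈ T := (mT x).2 hx.symm.dvd
  have c1 := count T ⟨x, hxT⟩ (fun t ht => by rwa [mT, orderOf_inv, ← mT]) (by
    have : (closure (T : Set G)).Normal := ⟨fun n hn g => by
      induction hn using closure_induction with
      | mem y hy => exact subset_closure ((mT _).2 (by rw [orderOf_conj']; exact (mT y).1 hy))
      | one => simp
      | mul a b _ _ ha hb => convert mul_mem ha hb using 1; group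
      | inv a _ ha => convert inv_mem ha using 1; group⟩
    exact this.eq_bot_or_eq_top.resolve_left fun h => x1 (h.le (subset_closure hxT))) fun t ht => by
    rw [mT] at ht
    set v := t ^ (orderOf t / p)
    have hv : orderOf v = p := orderOf_pow_orderOf_div (orderOf_pos t).ne' ht
    have key : ∀ g, g ∈ T → ∃ R : Subgroup G, (∀ k : ℤ, g * v ^ k ∉ T → g * v ^ k ∈ R) ∧
        (∀ k : ℤ, t * (g * v ^ k) ∉ T → t * (g * v ^ k) ∈ R) ∧
        ∀ k : ℤ, v ^ k ∈ R → (p : ℤ) ∣ k := fun g hg => by
      obtain ⟨S, hS⟩ := exists_isSylowOf p (closure ({t, g} : Set G))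
      obtain ⟨R, S, g1, -⟩ := good_of_cyclic (H.two t g) hS (H.cyc' h5 hS.isP)
      have m1 : t ∈ closure ({t, g} : Set G) := subset_closure (by simp)
      have m2 : g ∈ closure ({t, g} : Set G) := subset_closure (by simp)
      have s1 := ((g1 t m1).1 ht).1
      have s2 := ((g1 g m2).1 ((mT g).1 hg)).1
      refine ⟨R, fun k hk => by_contra fun hn => hk ((mT _).2 ((g1 _ (mul_mem m2 (zpow_mem
        (pow_mem m1 _) k))).2 ⟨mul_mem s2 (zpow_mem (pow_mem s1 _) k), hn⟩)),
        fun k hk => by_contra fun hn => hk ((mT _).2 ((g1 _ (mul_mem m1 (mul_mem m2 (zpow_mem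
        (pow_mem m1 _) k)))).2 ⟨mul_mem s1 (mul_mem s2 (zpow_mem (pow_mem s1 _) k)), hn⟩)),
        fun k hk => ?_⟩
      rw [← hv, orderOf_dvd_iff_zpow_eq_one]
      by_contra hn
      refine ((g1 _ (zpow_mem (pow_mem m1 _) k)).1 (dvd_of_ppow (k := 1) ?_ hn)).2 hk
      rw [pow_one, ← zpow_natCast, ← zpow_mul, mul_comm, zpow_mul, zpow_natCast,
        show v ^ p = 1 from hv ▸ pow_orderOf_eq_one v, one_zpow]
    have small : ∀ i j : Fin 5, (p : ℤ) ∣ ((j : ℕ) : ℤ) - (i : ℕ) → i = j := fun i j h => by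
      have := Int.eq_zero_of_abs_lt_dvd h (abs_lt.2 ⟨by omega, by omega⟩)
      omega
    have ex : ∀ g, ∃ e : Fin 5, g ∈ T → ∀ i : Fin 5, i ≠ e → g * v ^ ((i : ℕ) : ℤ) ∈ T := fun g => by
      by_contra hcon
      push Not at hcon
      obtain ⟨hg, i, -, hi⟩ := hcon 0
      obtain ⟨-, j, hij, hj⟩ := hcon i
      obtain ⟨R, r1, -, r3⟩ := key g hg
      refine hij (small _ _ (r3 _ ?_)).symm
      convert mul_mem (inv_mem (r1 _ hi)) (r1 _ hj) using 1
      group
    choose e he using ex
    have := card_le_card_of_injOn (s := (univ : Finset (Fin 4)) ×ˢ T.filter fun g => t * g ∉ T)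
      (t := T) (fun a => a.2 * v ^ (((e a.2).succAbove a.1 : ℕ) : ℤ))
      (fun a ha => he _ (mem_filter.1 (mem_product.1 ha).2).1 _ (Fin.succAbove_ne _ _))
      (fun ⟨k, g⟩ ha ⟨k', g'⟩ hb h => by
        obtain ⟨a1, a2⟩ := mem_filter.1 (mem_product.1 ha).2
        obtain ⟨-, b2⟩ := mem_filter.1 (mem_product.1 hb).2
        obtain ⟨R, -, r2, r3⟩ := key g a1
        dsimp only at h a2 b2
        set i := (e g).succAbove k with hi
        set j := (e g').succAbove k' with hj
        have e1 : g' = g * v ^ (((i : ℕ) : ℤ) - (j : ℕ)) := by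
          rw [zpow_sub, ← mul_assoc, h, mul_inv_cancel_right]
        have e2 := small _ _ (r3 (((i : ℕ) : ℤ) - (j : ℕ)) (by
          convert mul_mem (inv_mem (r2 0 (by simpa using a2))) (r2 _ (e1 ▸ b2)) using 1
          group))
        have e3 : g' = g := by rw [e1, e2]; simp
        subst e3
        rw [Fin.succAbove_right_injective (hj.symm.trans (e2.trans hi))])
    simpa using this
  obtain ⟨P⟩ : Nonempty (Sylow p G) := inferInstance
  have hP1 : (P : Subgroup G) ≠ ⊥ := P.ne_bot_of_dvd_card hd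
  have hN : (P : Subgroup G) ≠ normalizer (P : Set G) := fun h => by
    have hc := H.cyclic h5 P
    have h1 := MonoidHom.ker_transferSylow_isComplement' P (by
      rw [← h]
      exact le_centralizer_iff_isMulCommutative.2 ⟨⟨fun x y => by
        letI := hc.commGroup
        exact mul_comm x y⟩⟩)
    rcases (MonoidHom.normal_ker (MonoidHom.transferSylow P _)).eq_bot_or_eq_top with h2 | h2 <;>
      rw [h2] at h1
    · exact H.n_ne P.2 hP1 (h.symm.trans (isComplement'_bot_left.1 h1))
    · exact hP1 (isComplement'_top_left.1 h1)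
  haveI := Fintype.ofFinite (Sylow p G)
  have c2 : insert 1 T ⊆ (univ : Finset (Sylow p G)).biUnion fun Q => ((Q : Subgroup G) : Set G).toFinset :=
    fun g hg => by
    obtain ⟨Q, hQ⟩ : ∃ Q : Sylow p G, g ∈ Q := by
      rcases mem_insert.1 hg with rfl | h
      · exact ⟨P, one_mem _⟩
      · exact H.mem_sylow h5 ((mT g).1 h)
    exact mem_biUnion.2 ⟨Q, mem_univ _, Set.mem_toFinset.2 hQ⟩
  have c3 := (card_le_card c2).trans (card_biUnion_le_card_mul _ _ (Nat.card P) fun Q _ => by
    rw [Set.toFinset_card, ← Nat.card_eq_fintype_card, SetLike.coe_sort_coe,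
      Q.card_eq_multiplicity, P.card_eq_multiplicity])
  rw [card_insert_of_notMem (fun h => hp.out.one_lt.ne' (by simpa using (mT 1).1 h)), card_univ,
    ← Nat.card_eq_fintype_card, P.card_eq_index_normalizer] at c3
  have c4 := (normalizer (P : Set G)).index_mul_card
  obtain ⟨m, hm⟩ := card_dvd_of_le (le_normalizer (H := (P : Subgroup G)))
  have c5 : Nat.card P < Nat.card (normalizer (P : Set G)) :=
    card_lt_of_lt (lt_of_le_of_ne le_normalizer hN)
  rw [← Nat.card_eq_fintype_card] at c1
  have hm' : Nat.card (normalizer (P : Set G)) = Nat.card P * m := hm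
  have c6 : 2 ≤ m := by
    by_contra h
    have : m ≤ 1 := by omega
    nlinarith
  rw [hm'] at c4
  have := Nat.mul_le_mul_left ((normalizer (P : Set G)).index * Nat.card P) c6
  nlinarith

end MC

universe u in
theorem main (n : ℕ) : ∀ (G : Type u) [Group G] [Finite G], Nat.card G = n →
    (∀ a b : G, Group.IsSolvable (closure ({a, b} : Set G))) → Group.IsSolvable G := by
  induction n using Nat.strong_induction_on with | _ n ih => ?_
  intro G _ _ hG h
  by_contra ns
  have pr : ∀ L : Subgroup G, L ≠ ⊤ → Group.IsSolvable L := fun L hL =>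
    ih _ (hG ▸ card_lt_of_ne_top hL) L rfl fun a b => by
      haveI := h a.1 b.1
      refine solvable_of_solvable_injective (f := (L.subtype.domRestrict _).codRestrict
        (closure ({a.1, b.1} : Set G)) fun x => ?_) fun x y e =>
          Subtype.ext (Subtype.ext (congrArg (fun z : closure ({a.1, b.1} : Set G) => (z : G)) e))
      have := mem_map_of_mem L.subtype x.2
      rwa [MonoidHom.map_closure, Set.image_pair] at this
  haveI : Nontrivial G := not_subsingleton_iff_nontrivial.1 fun _ => ns inferInstance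
  have si : IsSimpleGroup G := ⟨fun N hN => by
    by_contra hcon
    push Not at hcon
    haveI := pr N hcon.2
    haveI := ih _ (hG ▸ card_quotient_lt hcon.1) (G ⧸ N) rfl fun a b => by
      obtain ⟨a, rfl⟩ := QuotientGroup.mk'_surjective N a
      obtain ⟨b, rfl⟩ := QuotientGroup.mk'_surjective N b
      haveI := h a b
      rw [← Set.image_pair, ← MonoidHom.map_closure]
      exact solvable_of_surjective ((QuotientGroup.mk' N).subgroupMap_surjective _)
    exact ns (solvable_of_ker_le_range N.subtype (QuotientGroup.mk' N) (by simp))⟩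
  obtain ⟨p, pp, h5, hd⟩ : ∃ p : ℕ, p.Prime ∧ 5 ≤ p ∧ p ∣ Nat.card G := by
    by_contra hcon
    push Not at hcon
    have h0 : Nat.card G ≠ 0 := Nat.card_pos.ne'
    obtain ⟨a, m, hm, e1⟩ := Nat.exists_eq_pow_mul_and_not_dvd h0 2 (by norm_num)
    have m0 : m ≠ 0 := fun h => h0 (by rw [e1, h, mul_zero])
    obtain ⟨b, k, hk, e2⟩ := Nat.exists_eq_pow_mul_and_not_dvd m0 3 (by norm_num)
    have : k = 1 := Nat.eq_one_iff_not_exists_prime_dvd.2 fun q hq hqk => by
      refine hcon q hq (hq.five_le_of_ne_two_of_ne_three ?_ ?_)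
        (e1 ▸ e2 ▸ (hqk.mul_left _).mul_left _)
      · rintro rfl; exact hm (e2 ▸ hqk.mul_left _)
      · rintro rfl; exact hk hqk
    exact ns (S0144.result 2 3 a b Nat.prime_two Nat.prime_three (by rw [e1, e2, this, mul_one]))
  haveI : Fact p.Prime := ⟨pp⟩
  exact MC.false ⟨si, ns, h, pr⟩ h5 hd

end Cfsg.Agent.Two
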