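import Cfsg.Agent.S0661
import Cfsg.Agent.S0018
import Cfsg.Agent.S0058
import Cfsg.Agent.S0126
import Cfsg.Agent.S0056
import Cfsg.Agent.PLoc.Hol
import Cfsg.Agent.PLoc.Stab2

/-! Solvable groups with cyclic Sylow `p`-subgroups; two-generated solvable groups, part one. -/

set_option autoImplicit false

namespace Cfsg.Agent.Two

open Subgroup Cfsg.Agent.PLoc

variable {G : Type*} [Group G] [Finite G] {p : ℕ} [hp : Fact p.Prime]

theorem cyc_mem {S : Subgroup G} (hS : IsCyclic S) {x w : G} (hx : x ∈ S) (hw : w ∈ S)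
    (h1 : orderOf x = p) (h2 : w ^ p = 1) : w ∈ zpowers x := by
  classical
  haveI := Fintype.ofFinite S
  have h3 := IsCyclic.card_pow_eq_one_le (α := S) hp.out.pos
  set X := (zpowers (⟨x, hx⟩ : S) : Set S).toFinset
  have h4 : X.card = p := by
    rw [Set.toFinset_card, ← Nat.card_eq_fintype_card, SetLike.coe_sort_coe, Nat.card_zpowers,
      ← h1, ← Subgroup.orderOf_coe]
  have h5 : X = Finset.univ.filter fun a : S => a ^ p = 1 := by
    refine Finset.eq_of_subset_of_card_le (fun a ha => ?_) (h4 ▸ h3)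
    obtain ⟨k, rfl⟩ : a ∈ zpowers (⟨x, hx⟩ : S) := by simpa [X] using ha
    refine Finset.mem_filter.2 ⟨Finset.mem_univ _, Subtype.ext ?_⟩
    simp only [SubgroupClass.coe_pow, SubgroupClass.coe_zpow, OneMemClass.coe_one]
    rw [← zpow_natCast, ← zpow_mul, mul_comm, zpow_mul, zpow_natCast, ← h1, pow_orderOf_eq_one,
      one_zpow]
  have h6 : (⟨w, hw⟩ : S) ∈ X := by
    rw [h5]; exact Finset.mem_filter.2 ⟨Finset.mem_univ _, Subtype.ext h2⟩
  obtain ⟨k, hk⟩ : (⟨w, hw⟩ : S) ∈ zpowers (⟨x, hx⟩ : S) := by simpa [X] using h6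
  exact ⟨k, congrArg Subtype.val hk⟩

theorem dvd_mk_iff (N : Subgroup G) [N.Normal] (hN : (Nat.card N).Coprime p) (g : G) :
    p ∣ orderOf (QuotientGroup.mk' N g) ↔ p ∣ orderOf g := by
  refine ⟨fun h => h.trans (orderOf_map_dvd _ g), fun h => ?_⟩
  set k := orderOf (QuotientGroup.mk' N g)
  have h1 : g ^ k ∈ N := by
    rw [← QuotientGroup.eq_one_iff, ← QuotientGroup.mk'_apply, map_pow, pow_orderOf_eq_one]
  have h2 : orderOf g ∣ k * Nat.card N := orderOf_dvd_of_pow_eq_one (by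
    rw [pow_mul]; exact orderOf_dvd_iff_pow_eq_one.1 (orderOf_dvd_card_of_mem h1))
  exact hN.symm.dvd_of_dvd_mul_right (h.trans h2)

theorem dvd_of_ppow {x : G} {k : ℕ} (h : x ^ p ^ k = 1) (h1 : x ≠ 1) : p ∣ orderOf x := by
  obtain ⟨j, -, hj⟩ := (Nat.dvd_prime_pow hp.out).1 (orderOf_dvd_of_pow_eq_one h)
  rw [hj]
  refine dvd_pow_self p fun h0 => h1 ?_
  rwa [h0, pow_zero, orderOf_eq_one_iff] at hj

theorem sing_iff [Group.IsSolvable G] (hO : pPrimeCore p G = ⊥) {S : Subgroup G} [S.Normal]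
    (hS : IsSylowOf p S ⊤) (hc : IsCyclic S) (g : G) : p ∣ orderOf g ↔ g ∈ S ∧ g ≠ 1 := by
  constructor
  · intro h
    refine ⟨?_, fun h1 => hp.out.one_lt.ne' (by simpa [h1] using h)⟩
    obtain ⟨a, ha, b, hb, e, c, ⟨k, hk⟩, hbo⟩ := exists_p_part p g
    have haS : a ∈ S := hS.le_of_le_normalizer (isPGroup_zpowers hk) le_top
      le_normalizer_of_normal (mem_zpowers a)
    have ha1 : a ≠ 1 := by
      rintro rfl
      rw [one_mul] at e
      exact hp.out.one_lt.ne' (Nat.eq_one_of_dvd_coprimes hbo (e ▸ h) dvd_rfl)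
    have h1 := dvd_of_ppow hk ha1
    have h2 : orderOf (a ^ (orderOf a / p)) = p := orderOf_pow_orderOf_div (orderOf_pos a).ne' h1
    haveI : IsMulCommutative S := ⟨⟨fun x y => by
      letI := hc.commGroup
      exact mul_comm x y⟩⟩
    have h3 := S0056.result (zpowers b) S le_normalizer_of_normal
      (coprime_card_of_isPGroup hS.isP (by rwa [Nat.card_zpowers])) fun v hv hvo => by
        obtain ⟨j, hj⟩ := IsPGroup_orderOf hS.isP hv
        have h4 : orderOf v = p := ((Nat.prime_dvd_prime_iff_eq hvo hp.out).1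
          (hvo.dvd_of_dvd_pow hj.dvd))
        obtain ⟨i, rfl⟩ := cyc_mem hc (pow_mem haS _) hv h2 (h4 ▸ pow_orderOf_eq_one v)
        rintro _ ⟨l, rfl⟩
        exact ((((show Commute b a from c.symm).pow_right _).zpow_right i).zpow_left l).eq
    have h5 : pCore p G ≤ S := hS.le_of_le_normalizer pCore_isPGroup le_top le_normalizer_of_normal
    have h6 := centralizer_pCore_le_of_isPSolvable (isPSolvable_of_isSolvable (G := G) inferInstance)
      hO (centralizer_anti h5 (h3 (mem_zpowers b)))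
    rw [e, eq_one_of_isPGroup_of_coprime pCore_isPGroup h6 hbo, mul_one]
    exact haS
  · rintro ⟨h1, h2⟩
    obtain ⟨k, hk⟩ := isPGroup_iff_forall.1 hS.isP g h1
    exact dvd_of_ppow hk h2

/-- The behaviour of `p`-singular elements in a solvable subgroup with cyclic Sylow subgroups. -/
def Good (p : ℕ) (L : Subgroup G) : Prop :=
  ∃ R S : Subgroup G, (∀ g ∈ L, p ∣ orderOf g ↔ g ∈ S ∧ g ∉ R) ∧
    ∀ x ∈ L, ∀ w ∈ L, orderOf x = p → orderOf w = p → ∃ i : ℤ, w⁻¹ * x ^ i ∈ R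

theorem good_of_cyclic {L S : Subgroup G} (hL : Group.IsSolvable L) (hS : IsSylowOf p S L)
    (hc : IsCyclic S) : Good p L := by
  obtain ⟨S, -, rfl⟩ := hS.exists_sylow
  have hc' : IsCyclic S := isCyclic_of_injective (L.subtype.subgroupMap S)
    (fun a b h => Subtype.ext (Subtype.ext
      (congrArg (fun z : (S : Subgroup L).map L.subtype => (z : G)) h)))
  let π := QuotientGroup.mk' (pPrimeCore p L)
  have hπ : Function.Surjective π := QuotientGroup.mk'_surjective _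
  have h1 := S0018.result p S ⟨⟨fun x y => by
      letI := hc'.commGroup
      exact mul_comm x y⟩⟩
  haveI : ((S : Subgroup L).map π).Normal := by
    have := h1.map π hπ
    rwa [Subgroup.map_sup, QuotientGroup.map_mk'_self, sup_bot_eq] at this
  have h2 := (isSylowOf_top S).map π
  rw [map_top_of_surjective _ hπ] at h2
  have h3 : IsCyclic ((S : Subgroup L).map π) :=
    isCyclic_of_surjective _ (π.subgroupMap_surjective S)
  have key := fun g : L => (dvd_mk_iff _ pPrimeCore_coprime g).symm.trans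
    (sing_iff pPrimeCore_quotient_pPrimeCore h2 h3 (π g))
  have mR : ∀ g : L, g.1 ∈ pPrimeCoreOf p L ↔ π g = 1 := fun g =>
    mem_pPrimeCoreOf.trans (QuotientGroup.eq_one_iff g).symm
  refine ⟨pPrimeCoreOf p L, (((S : Subgroup L).map π).comap π).map L.subtype, fun g hg => ?_,
    fun x hx w hw ox ow => ?_⟩
  · have := key ⟨g, hg⟩
    rw [Subgroup.orderOf_mk] at this
    rw [this, Ne, ← mR ⟨g, hg⟩]
    refine and_congr_left fun _ => ⟨fun h => ⟨⟨g, hg⟩, h, rfl⟩, ?_⟩
    rintro ⟨a, ha, rfl⟩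
    exact ha
  · have k1 := (key ⟨x, hx⟩).1 (by rw [Subgroup.orderOf_mk, ox])
    have k2 := (key ⟨w, hw⟩).1 (by rw [Subgroup.orderOf_mk, ow])
    have pw : ∀ y (hy : y ∈ L), orderOf y = p → π ⟨y, hy⟩ ^ p = 1 := fun y hy h => by
      rw [← map_pow, ← map_one π]
      exact congrArg π (Subtype.ext (h ▸ pow_orderOf_eq_one y))
    obtain ⟨i, hi⟩ := cyc_mem h3 k1.1 k2.1 (orderOf_eq_prime (pw x hx ox) k1.2) (pw w hw ow)
    refine ⟨i, (mR (⟨w, hw⟩⁻¹ * ⟨x, hx⟩ ^ i)).2 ?_⟩
    rw [map_mul, map_inv, map_zpow, inv_mul_eq_one]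
    exact hi.symm

theorem exists_ea (h2 : p ≠ 2) {S : Subgroup G} (hS : IsPGroup p S) (hc : ¬ IsCyclic S) :
    ∃ A ≤ S, IsMulCommutative A ∧ ¬ IsCyclic A ∧ ∀ a ∈ A, a ^ p = 1 := by
  obtain ⟨A, -, ⟨h1, h3⟩, h4⟩ := S0126.result h2 hS hc
  have h5 : ∀ a ∈ A.map S.subtype, a ^ p = 1 := by
    rintro _ ⟨a, ha, rfl⟩
    exact congrArg Subtype.val (h3 a ha)
  refine ⟨A.map S.subtype, map_subtype_le _, isMulCommutative_of_forall ?_, fun h => ?_, h5⟩
  · rintro _ ⟨a, ha, rfl⟩ _ ⟨b, hb, rfl⟩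
    exact congrArg Subtype.val (comm_of_mem h1 ha hb)
  · obtain ⟨g, hg⟩ := h.exists_ofOrder_eq_natCard
    rw [card_subtype, h4] at hg
    have := Nat.le_of_dvd hp.out.pos (hg ▸ orderOf_dvd_of_pow_eq_one (Subtype.ext (h5 g.1 g.2)))
    have := hp.out.one_lt
    nlinarith

theorem eq_top_of_noncyclic [Group.IsSolvable G] (h2 : p ≠ 2) {M S : Subgroup G}
    (hM : ∀ Q : Subgroup G, IsPGroup p Q → Q ≠ ⊥ → Q ≤ M → normalizer (Q : Set G) ≤ M)
    (hS : IsSylowOf p S ⊤) (hSM : S ≤ M) (hc : ¬ IsCyclic S) : M = ⊤ := by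
  obtain ⟨A, hAS, h1, h3, h4⟩ := exists_ea h2 hS.isP hc
  have hR : pPrimeCore p G ≤ M := by
    rw [← S0058.result A (pPrimeCore p G) h3 le_normalizer_of_normal
      (coprime_card_card (hS.isP.to_le hAS) pPrimeCore_coprime)]
    refine iSup₂_le fun a ⟨ha, ha1⟩ => inf_le_right.trans (le_trans ?_ (hM (zpowers a)
      (hS.isP.to_le (zpowers_le.2 (hAS ha))) (by simpa using ha1) (zpowers_le.2 (hSM (hAS ha)))))
    rw [← centralizer_zpowers]
    exact centralizer_le_normalizer _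
  have h5 := hS.inf_of_le (N := pPrimePCore p G) le_top le_normalizer_of_normal
  have h6 := h5.map_eq_of_isPGroup (QuotientGroup.mk' (pPrimeCore p G))
    (by rw [map_pPrimePCore]; exact pCore_isPGroup)
  have h7 : pPrimePCore p G ≤ M := fun x hx => by
    obtain ⟨y, hy, e⟩ : QuotientGroup.mk' (pPrimeCore p G) x ∈ (S ⊓ pPrimePCore p G).map _ :=
      h6 ▸ mem_map_of_mem _ hx
    have := hR (QuotientGroup.eq.1 e)
    exact (mul_mem_cancel_left (inv_mem (hSM hy.1))).1 this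
  rw [eq_top_iff, ← h5.frattini_sup]
  refine sup_le h7 (hM _ h5.isP (fun hb => hc ?_) (inf_le_left.trans hSM))
  rw [hb, Subgroup.map_bot, map_pPrimePCore] at h6
  have h8 := centralizer_pCore_le_of_isPSolvable (isPSolvable_of_isSolvable
    (G := G ⧸ pPrimeCore p G) inferInstance) pPrimeCore_quotient_pPrimeCore
  rw [← h6] at h8
  have h9 : S = ⊥ := eq_bot_iff.2 fun x hx => by
    have : x ∈ pPrimeCore p G := (QuotientGroup.eq_one_iff x).1 (h8 (by simp [mem_centralizer_iff]))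
    exact eq_one_of_isPGroup_of_coprime hS.isP hx (coprime_orderOf_of_mem pPrimeCore_coprime this)
  rw [h9]
  infer_instance

theorem gold {L X : Subgroup G} (hL : Group.IsSolvable L) (hX : IsPGroup p X) (hXL : X ≤ L) :
    pPrimeCoreOf p (normalizer (X : Set G)) ⊓ L ≤ pPrimeCoreOf p L := by
  have h1 := S0661.result (isPConstrained_iff.1 (isPConstrained_of_isPSolvable
    (isPSolvable_of_isSolvable hL))) (X.subgroupOf L) hX.comap_subtype
  rw [pPrimeCoreOf_def] at h1
  have hn : ∀ g : L, g ∈ normalizer (X.subgroupOf L : Set L) ↔ g.1 ∈ normalizer (X : Set G) :=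
    fun g => by rw [← subgroupOf_normalizer_eq hXL, mem_subgroupOf]
  set Y := pPrimeCoreOf p (normalizer (X : Set G))
  have h2 : Y.subgroupOf L ≤ pPrimeCoreOf p (normalizer (X.subgroupOf L : Set L)) := by
    refine le_pPrimeCoreOf (fun g hg => (hn g).2 (pPrimeCoreOf_le _ hg)) (fun g hg => ?_) ?_
    · exact mem_normalizer_of_conj_mem fun x hx => conj_mem_of_mem_normalizer (H := Y)
        (le_normalizer_pPrimeCoreOf _ ((hn g).1 hg)) hx
    · exact Nat.Coprime.coprime_dvd_left (card_dvd_of_injective (L.subtype.subgroupComap Y)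
        fun a b h => Subtype.ext (Subtype.ext (congrArg (fun z : Y => (z : G)) h)))
        (pPrimeCoreOf_coprime _)
  rintro x ⟨hx, hxL⟩
  exact (mem_pPrimeCoreOf (x := ⟨x, hxL⟩)).2 (h1 ▸ h2 hx).1

end Cfsg.Agent.Two
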