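import Cfsg.Agent.Two.A
import Cfsg.Agent.S0658
import Cfsg.Agent.S0144

/-! A finite group in which any two elements generate a solvable subgroup is solvable. -/

set_option autoImplicit false

namespace Cfsg.Agent.Two

open Subgroup Cfsg.Agent.PLoc

structure MC (G : Type*) [Group G] : Prop where
  si : IsSimpleGroup G
  ns : ¬ Group.IsSolvable G
  two : ∀ a b : G, Group.IsSolvable (closure ({a, b} : Set G))
  pr : ∀ L : Subgroup G, L ≠ ⊤ → Group.IsSolvable L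

namespace MC
variable {G : Type*} [Group G] [Finite G] {p : ℕ} [hp : Fact p.Prime] (H : MC G)
include H

theorem n_ne {X : Subgroup G} (hX : IsPGroup p X) (h1 : X ≠ ⊥) : normalizer (X : Set G) ≠ ⊤ :=
  fun h => by
  haveI := H.si
  rcases (normal_of_top_le_normalizer h.ge).eq_bot_or_eq_top with h2 | h2
  · exact h1 h2
  · rw [h2, isPGroup_top_iff] at hX
    haveI := hX.isNilpotent
    exact H.ns inferInstance

theorem core1 {v : G} (hv : IsPGroup p (zpowers v)) (h1 : v ≠ 1) :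
    pPrimeCoreOf p (normalizer (zpowers v : Set G)) = ⊥ := by
  haveI := H.si
  let K0 : Submonoid G := ⟨⟨{h | ∀ g : G, ¬ p ∣ orderOf g → ¬ p ∣ orderOf (h * g)},
    fun ha hb g hg => by rw [mul_assoc]; exact ha _ (hb g hg)⟩, fun g hg => by rwa [one_mul]⟩
  let K : Subgroup G := { K0 with
    inv_mem' := fun {x} hx => by
      have : x⁻¹ = x ^ (orderOf x - 1) := by
        rw [inv_eq_iff_mul_eq_one, ← pow_succ', Nat.sub_add_cancel (orderOf_pos x),
          pow_orderOf_eq_one]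
      rw [this]; exact K0.pow_mem hx _ }
  have hK : K.Normal := ⟨fun h hh a g hg => by
    have := hh (a⁻¹ * g * a⁻¹⁻¹) (by rwa [orderOf_conj'])
    rwa [← orderOf_conj' a, show a * (h * (a⁻¹ * g * a⁻¹⁻¹)) * a⁻¹ = a * h * a⁻¹ * g by group]
      at this⟩
  obtain ⟨k, hk⟩ := isPGroup_iff_forall.1 hv v (mem_zpowers v)
  have hK' : K = ⊥ := hK.eq_bot_or_eq_top.resolve_right fun h => by
    have : v ∈ K := h ▸ mem_top v
    exact this 1 (by simpa using hp.out.one_lt.ne') (by simpa using dvd_of_ppow hk h1)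
  rw [eq_bot_iff, ← hK']
  intro x hx g hg
  set Y := pPrimeCoreOf p (normalizer (zpowers v : Set G))
  have c : Commute v x := by
    have := le_centralizer_of_inf_eq_bot (H := Y) (K := zpowers v) (pPrimeCoreOf_le _)
      (le_normalizer.trans (le_normalizer_pPrimeCoreOf _))
      (by rw [inf_comm]; exact inf_eq_bot_of_isPGroup_of_coprime hv (pPrimeCoreOf_coprime _)) hx
    exact this v (mem_zpowers v)
  set L := closure ({v * x, g} : Set G)
  have m1 : v * x ∈ L := subset_closure (by simp)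
  have m2 : g ∈ L := subset_closure (by simp)
  have hxo := coprime_orderOf_of_mem (pPrimeCoreOf_coprime _) hx
  have m3 : x ∈ L := mem_of_pow_mem_of_coprime (n := p ^ k) (by
    have := pow_mem m1 (p ^ k)
    rwa [c.mul_pow, hk, one_mul] at this) (hxo.pow_right k)
  have m4 : v ∈ L := (mul_mem_cancel_right m3).1 m1
  have h2 := (mem_pPrimeCoreOf (x := ⟨x, m3⟩)).1 (gold (H.two _ _) hv (zpowers_le.2 m4) ⟨hx, m3⟩)
  have h3 := dvd_mk_iff (pPrimeCore p L) pPrimeCore_coprime (⟨x, m3⟩ * ⟨g, m2⟩)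
  rw [map_mul, QuotientGroup.mk'_apply, (QuotientGroup.eq_one_iff _).2 h2, one_mul,
    dvd_mk_iff _ pPrimeCore_coprime, ← Subgroup.orderOf_coe, ← Subgroup.orderOf_coe] at h3
  exact fun h => hg (h3.2 h)

theorem core {X : Subgroup G} (hX : IsPGroup p X) (h1 : X ≠ ⊥) :
    pPrimeCoreOf p (normalizer (X : Set G)) = ⊥ := by
  obtain ⟨⟨v, hv, hv'⟩, h2⟩ := (ne_bot_iff_exists_ne_one).1 (center_ne_bot hX h1)
  have h3 : v ≠ 1 := fun h => h2 (Subtype.ext h)
  have h4 : IsPGroup p (zpowers v) := hX.to_le (zpowers_le.2 hv)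
  have h5 : centralizer {v} ≤ normalizer (zpowers v : Set G) := by
    rw [← centralizer_zpowers]; exact centralizer_le_normalizer _
  have h6 := gold (H.pr _ (H.n_ne h4 (by simpa using h3))) hX
    (fun x hx => h5 (mem_centralizer_singleton_iff.2 (hv' x hx)))
  rw [H.core1 h4 h3] at h6
  refine eq_bot_iff.2 fun x hx => h6 ⟨hx, h5 (mem_centralizer_singleton_iff.2 ?_)⟩
  exact (le_centralizer_of_inf_eq_bot (pPrimeCoreOf_le _)
    (le_normalizer.trans (le_normalizer_pPrimeCoreOf _))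
    (by rw [inf_comm]; exact inf_eq_bot_of_isPGroup_of_coprime hX (pPrimeCoreOf_coprime _)) hx
    v hv).symm

theorem se (h5 : 5 ≤ p) (P : Sylow p G) (h1 : (P : Subgroup G) ≠ ⊥) :
    ∃ M : Subgroup G, M ≠ ⊤ ∧ (P : Subgroup G) ≤ M ∧
      ∀ Q : Subgroup G, IsPGroup p Q → Q ≠ ⊥ → Q ≤ M → normalizer (Q : Set G) ≤ M := by
  have key := S0658.result (p := p) (by omega) (fun Q hQ hQ1 => by
    have s := isPSolvable_of_isSolvable (p := p) (H.pr _ (H.n_ne hQ hQ1))
    have c := pPrimeCoreOf_eq_bot_iff.1 (H.core hQ hQ1)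
    refine ⟨c, isPConstrained_of_isPSolvable s, (isPStable_iff_of_eq_bot c).2
      ⟨odd_of_ne_two (by omega), fun hb => hQ1 ?_, stabN_of fun N _ _ _ hV =>
        stabOn_of_isPSolvable (by omega) (isPSolvable_subgroup (isPSolvable_quotient s N) _)
          (by omega) hV le_normalizer_of_normal⟩⟩
    rw [eq_bot_iff, ← pCoreOf_eq_bot_iff.2 hb]
    exact le_pCoreOf le_normalizer le_rfl hQ) P
  rw [centerThompsonAOf_eq] at key
  have hP := le_normalizer_ZJOf (e := 0) (P : Subgroup G)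
  refine ⟨_, H.n_ne (P.2.to_le (ZJOf_le _)) (ZJOf_ne_bot P.2 h1 (dvd_zero p)), hP,
    fun Q hQ hQ1 hQM => ?_⟩
  obtain ⟨m, hm, hle⟩ := (isSylowOf_sylow P hP).exists_cj_le hQ hQM
  have := key _ hle fun h => hQ1 (cj_eq_bot_iff.1 h)
  rw [← cj_normalizer, cj_le_iff, cj_eq_of_mem (inv_mem hm)] at this
  exact this

omit H in
theorem good (h2 : p ≠ 2) {M L : Subgroup G}
    (hM : ∀ Q : Subgroup G, IsPGroup p Q → Q ≠ ⊥ → Q ≤ M → normalizer (Q : Set G) ≤ M)
    (hL : Group.IsSolvable L) {v : G} (hv : orderOf v = p) (hvM : v ∈ M) (hvL : v ∈ L)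
    (hn : ¬ L ≤ M) : Good p L := by
  have h3 : IsPGroup p (zpowers v) := isPGroup_zpowers (k := 1)
    (by rw [pow_one, ← hv, pow_orderOf_eq_one])
  have h4 : zpowers v ≠ ⊥ := fun h => hp.out.one_lt.ne' (by
    rw [← hv, zpowers_eq_bot.1 h, orderOf_one])
  have cn : ∀ v : G, centralizer {v} ≤ normalizer (zpowers v : Set G) := fun v => by
    rw [← centralizer_zpowers]; exact centralizer_le_normalizer _
  obtain ⟨S, hS, hvS⟩ := exists_isSylowOf_ge h3 (zpowers_le.2 hvL)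
  refine good_of_cyclic hL hS (by_contra fun hc => hn ?_)
  obtain ⟨⟨z, hz, hz'⟩, h5⟩ := (ne_bot_iff_exists_ne_one).1
    (center_ne_bot hS.isP fun h => h4 (eq_bot_iff.2 (h ▸ hvS)))
  have h6 : z ∈ M := hM _ h3 h4 (zpowers_le.2 hvM) (cn v (mem_centralizer_singleton_iff.2
    (hz' v (hvS (mem_zpowers v))).symm))
  have h7 : S ≤ M := fun x hx => hM _ (hS.isP.to_le (zpowers_le.2 hz))
    (fun h => h5 (Subtype.ext (zpowers_eq_bot.1 h))) (zpowers_le.2 h6)
    (cn z (mem_centralizer_singleton_iff.2 (hz' x hx)))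
  have h8 := hS.subgroupOf le_rfl
  rw [subgroupOf_self] at h8
  refine subgroupOf_eq_top.1 (eq_top_of_noncyclic h2 (fun Q hQ hQ1 hQM x hx => ?_) h8
    (fun x hx => h7 hx) fun h => hc (isCyclic_of_surjective _
      (subgroupOfEquivOfLe hS.le).surjective))
  exact hM (Q.map L.subtype) (hQ.map _) (fun h => hQ1 ((map_eq_bot_iff_of_injective _
    L.subtype_injective).1 h)) (map_le_iff_le_comap.2 hQM)
    (le_normalizer_map' L.subtype (le_refl (normalizer (Q : Set L))) (mem_map_of_mem _ hx))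

theorem cyclic (h5 : 5 ≤ p) (P : Sylow p G) : IsCyclic P := by
  haveI := H.si
  by_contra hc
  obtain ⟨M, hM1, hPM, hM⟩ := H.se h5 P fun h => hc (by rw [h]; infer_instance)
  obtain ⟨B, hBP, hB1, hB2, hB3⟩ := exists_ea (p := p) (by omega) P.2 hc
  have oB : ∀ x ∈ B, x ≠ 1 → orderOf x = p := fun x hx h => orderOf_eq_prime (hB3 x hx) h
  obtain ⟨⟨x1, hx1⟩, h1⟩ := (ne_bot_iff_exists_ne_one (H := B)).1 fun h => hB2
    (by rw [h]; infer_instance)
  have h1' : x1 ≠ 1 := fun h => h1 (Subtype.ext h)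
  obtain ⟨w, hw, hwM⟩ : ∃ w : G, orderOf w = p ∧ w ∉ M := by
    by_contra hcon
    push Not at hcon
    refine hM1 (eq_top_iff.2 ?_)
    rcases (normalClosure_normal (s := {x1})).eq_bot_or_eq_top with h | h
    · exact absurd (h.le (subset_normalClosure rfl)) h1'
    · rw [← h]
      refine (closure_le _).2 fun y hy => hcon y ?_
      obtain ⟨a, rfl, ha⟩ := Group.mem_conjugatesOfSet_iff.1 hy
      obtain ⟨g, rfl⟩ := isConj_iff.1 ha
      rw [orderOf_conj', oB _ hx1 h1']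
  have gd : ∀ x ∈ B, x ≠ 1 → ∀ y, y ∉ M → Good p (closure ({x, y} : Set G)) := fun x hx h y hy =>
    good (by omega) hM (H.two _ _) (oB x hx h) (hPM (hBP hx)) (subset_closure (by simp))
      fun hle => hy (hle (subset_closure (by simp)))
  have m1 : ∀ x y : G, x ∈ closure ({x, y} : Set G) := fun x y => subset_closure (by simp)
  have m2 : ∀ x y : G, y ∈ closure ({x, y} : Set G) := fun x y => subset_closure (by simp)
  set Z := {x | ¬ p ∣ orderOf (w⁻¹ * x)} with hZ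
  have z1 : (1 : G) ∉ Z := fun h => h (by simp [hw])
  have za : ∀ x ∈ B, x ≠ 1 → (∃ i : ℤ, x ^ i ∈ Z) ∧
      ∀ i j : ℤ, x ^ i ∈ Z → x ^ j ∈ Z → x ^ i = x ^ j := fun x hx h => by
    obtain ⟨R, S, g1, g2⟩ := gd x hx h w hwM
    have mm : ∀ i : ℤ, w⁻¹ * x ^ i ∈ closure ({x, w} : Set G) := fun i =>
      mul_mem (inv_mem (m2 x w)) (zpow_mem (m1 x w) i)
    constructor
    · obtain ⟨i, hi⟩ := g2 x (m1 x w) w (m2 x w) (oB x hx h) hw
      exact ⟨i, fun h => ((g1 _ (mm i)).1 h).2 hi⟩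
    · have s1 := ((g1 x (m1 x w)).1 (oB x hx h).symm.dvd).1
      have s2 := ((g1 w (m2 x w)).1 hw.symm.dvd).1
      have r : ∀ i : ℤ, x ^ i ∈ Z → w⁻¹ * x ^ i ∈ R := fun i hi => by
        by_contra hn
        exact hi ((g1 _ (mm i)).2 ⟨mul_mem (inv_mem s2) (zpow_mem s1 i), hn⟩)
      intro i j hi hj
      by_contra hne
      have m3 : (x ^ i)⁻¹ * x ^ j ∈ B := mul_mem (inv_mem (zpow_mem hx i)) (zpow_mem hx j)
      refine ((g1 _ (mul_mem (inv_mem (zpow_mem (m1 x w) i)) (zpow_mem (m1 x w) j))).1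
        (oB _ m3 fun h => hne (inv_mul_eq_one.1 h)).symm.dvd).2 ?_
      convert mul_mem (inv_mem (r i hi)) (r j hj) using 1
      group
  have zc : ∀ z ∈ B, z ∈ Z → ∀ x ∈ B, x ≠ 1 → z * x ∈ Z → ∀ i : ℤ, z * x ^ i ∈ Z :=
    fun z hz hzZ x hx h hzx i => by
    obtain ⟨R, S, g1, -⟩ := gd x hx h (w⁻¹ * z) fun h =>
      hwM (inv_mem_iff.1 ((mul_mem_cancel_right (hPM (hBP hz))).1 h))
    have s1 := (g1 x (m1 x _)).1 (oB x hx h).symm.dvd
    have s2 : w⁻¹ * z ∉ S := fun s2 => by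
      have r1 : w⁻¹ * z ∈ R := by_contra fun hn => hzZ ((g1 _ (m2 _ _)).2 ⟨s2, hn⟩)
      have r2 : w⁻¹ * z * x ∈ R := by_contra fun hn => hzx (by
        rw [← mul_assoc]
        exact (g1 _ (mul_mem (m2 _ _) (m1 _ _))).2 ⟨mul_mem s2 s1.1, hn⟩)
      exact s1.2 ((mul_mem_cancel_left r1).1 r2)
    intro hd
    rw [← mul_assoc] at hd
    exact s2 ((mul_mem_cancel_right (zpow_mem s1.1 i)).1
      ((g1 _ (mul_mem (m2 _ _) (zpow_mem (m1 _ _) i))).1 hd).1)
  have zu : ∀ a ∈ B, a ∈ Z → ∀ b ∈ B, b ∈ Z → a = b := fun a ha haZ b hb hbZ => by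
    by_contra hne
    have hx : a⁻¹ * b ∈ B := mul_mem (inv_mem ha) hb
    have hx1 : a⁻¹ * b ≠ 1 := fun h => hne (inv_mul_eq_one.1 h)
    obtain ⟨⟨k, hk⟩, hu⟩ := za _ hx hx1
    set x := a⁻¹ * b with hxd
    have l1 := zc a ha haZ x hx hx1 (by rwa [hxd, mul_inv_cancel_left])
    have hu1 : a⁻¹ * x ^ k ≠ 1 := fun h => by
      have e1 := inv_mul_eq_one.1 h
      have e2 : b = x ^ (k + 1) := by rw [zpow_add_one, ← e1, hxd, mul_inv_cancel_left]
      exact hne (by rw [e1, e2]; exact hu _ _ hk (e2 ▸ hbZ))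
    have hux := zpow_mem hx k
    have l2 := zc a ha haZ _ (mul_mem (inv_mem ha) hux) hu1 (by rwa [mul_inv_cancel_left]) 2
    have l3 := l1 (-(2 * k))
    have c : Commute a (x ^ k) := comm_of_mem hB1 ha hux
    set y := a * (a⁻¹ * x ^ k) ^ (2 : ℤ) with hy
    have hyB : y ∈ B := mul_mem ha (zpow_mem (mul_mem (inv_mem ha) hux) 2)
    have e1 : a * x ^ (-(2 * k)) = y ^ (-1 : ℤ) := by
      rw [hy, c.inv_left.mul_zpow, mul_comm 2 k, ← mul_neg, zpow_mul, (c.zpow_right _).eq]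
      group
    have hy1 : y ≠ 1 := fun h => z1 (h ▸ l2)
    have e2 := (za y hyB hy1).2 1 (-1) (by rwa [zpow_one]) (e1 ▸ l3)
    have e3 : y ^ 2 = 1 := by
      rw [zpow_one, zpow_neg_one, eq_inv_iff_mul_eq_one] at e2
      rwa [pow_two]
    have := Nat.le_of_dvd two_pos (oB y hyB hy1 ▸ orderOf_dvd_of_pow_eq_one e3)
    omega
  obtain ⟨⟨i, hi⟩, -⟩ := za x1 hx1 h1'
  have hz := zpow_mem hx1 i
  refine hB2 ⟨⟨⟨_, hz⟩, fun ⟨x, hx⟩ => ?_⟩⟩
  by_cases h : x = 1
  · exact ⟨0, Subtype.ext (by simp [h])⟩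
  obtain ⟨⟨j, hj⟩, -⟩ := za x hx h
  have e := zu _ hz hi _ (zpow_mem hx j) hj
  obtain ⟨k, hk⟩ := cyc_mem (S := zpowers x) inferInstance (zpow_mem (mem_zpowers x) j)
    (mem_zpowers x) (oB _ (zpow_mem hx j) fun h => z1 (h ▸ hj)) (hB3 x hx)
  exact ⟨k, Subtype.ext (by simpa [e] using hk)⟩

end MC

end Cfsg.Agent.Two
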